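import Mathlib

set_option autoImplicit false

/-! # A criterion for double transitivity on `11` points (Frobenius subgroup of order `55`) -/

namespace Cfsg.Agent.Lib.Helper48.L211

open MulAction

section

variable {G : Type*} [Group G] (H N : Subgroup G)

/-- an element fixing a coset has order dividing `|H|` -/
theorem orderOf_dvd_of_fix (g : G) (ω : G ⧸ H) (h : g • ω = ω) : orderOf g ∣ Nat.card H := by
  induction ω using QuotientGroup.induction_on with
  | H x =>
    rw [MulAction.Quotient.smul_mk, QuotientGroup.eq, smul_eq_mul] at h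
    have h1 : orderOf (⟨_, h⟩ : H) ∣ Nat.card H := orderOf_dvd_natCard _
    rw [← Subgroup.orderOf_coe] at h1
    have h2 : orderOf ((g * x)⁻¹ * x) = orderOf g := by
      have : (g * x)⁻¹ * x = x⁻¹ * g⁻¹ * x := by group
      rw [this]
      have h3 : x⁻¹ * g⁻¹ * x = (MulAut.conj x⁻¹) g⁻¹ := by simp [MulAut.conj_apply]
      rw [h3, MulEquiv.orderOf_eq, orderOf_inv]
    rwa [h2] at h1

/-- a group of order `55` has a normal subgroup of order `11` -/
theorem exists_normal_sylow [Finite G] (hN : Nat.card N = 55) :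
    ∃ P : Subgroup N, P.Normal ∧ Nat.card P = 11 := by
  have : Fact (Nat.Prime 11) := ⟨by norm_num⟩
  have : Finite N := inferInstance
  obtain ⟨P⟩ : Nonempty (Sylow 11 N) := inferInstance
  obtain ⟨n, hn⟩ := IsPGroup.exists_card_eq P.isPGroup'
  have hmul := Subgroup.card_mul_index (P : Subgroup N)
  have hnd := P.not_dvd_index
  rw [hN] at hmul
  have hn1 : n = 1 := by
    rcases n with _ | _ | n
    · exfalso
      rw [pow_zero] at hn
      rw [hn, one_mul] at hmul
      apply hnd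
      rw [hmul]; norm_num
    · rfl
    · exfalso
      have : 11 ^ (n + 1 + 1) ∣ 55 := by
        rw [← hn, ← hmul]; exact Dvd.intro _ rfl
      have h121 : 121 ∣ 55 := dvd_trans (by
        rw [pow_succ, pow_succ]; exact ⟨11 ^ n, by ring⟩) this
      omega
  rw [hn1, pow_one] at hn
  have hidx : (P : Subgroup N).index = 5 := by
    rw [hn] at hmul; omega
  have hdvd := Sylow.card_dvd_index P
  have hmod := card_sylow_modEq_one 11 N
  rw [hidx] at hdvd
  have hle : Nat.card (Sylow 11 N) ≤ 5 := Nat.le_of_dvd (by norm_num) hdvd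
  have hone : Nat.card (Sylow 11 N) = 1 := by
    unfold Nat.ModEq at hmod
    interval_cases h : Nat.card (Sylow 11 N) <;> simp_all
  have hsub : Subsingleton (Sylow 11 N) := (Nat.card_eq_one_iff_unique.1 hone).1
  exact ⟨P, Sylow.normal_of_subsingleton P, hn⟩

/-- a subgroup of order `11` acts regularly on the `11` cosets -/
theorem exists_smul_of_card [Finite G] (hH : Nat.card H = 60) (hidx : H.index = 11)
    (P : Subgroup N) (hP : Nat.card P = 11) (ω ω' : G ⧸ H) :
    ∃ v ∈ P, (v : G) • ω = ω' := by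
  have hinj : Function.Injective (fun v : P => ((v : N) : G) • ω) := by
    intro v v' hvv
    simp only at hvv
    have h1 : (((v'⁻¹ * v : P) : N) : G) • ω = ω := by
      simp only [Subgroup.coe_mul, Subgroup.coe_inv, mul_smul]
      rw [hvv, inv_smul_smul]
    have h2 := orderOf_dvd_of_fix H _ ω h1
    rw [hH, Subgroup.orderOf_coe, Subgroup.orderOf_coe] at h2
    have h3 : orderOf (v'⁻¹ * v : P) ∣ 11 := by
      rw [← hP]; exact orderOf_dvd_natCard _
    have h4 : orderOf (v'⁻¹ * v : P) ∣ Nat.gcd 60 11 := Nat.dvd_gcd h2 h3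
    have h5 : v'⁻¹ * v = 1 := orderOf_eq_one_iff.1 (Nat.dvd_one.1 (by simpa using h4))
    exact (inv_mul_eq_one.1 h5).symm
  have hcard : Nat.card (G ⧸ H) ≤ Nat.card P := by
    rw [← Subgroup.index_eq_card, hidx, hP]
  obtain ⟨v, hv⟩ := (hinj.bijective_of_nat_card_le hcard).2 ω'
  exact ⟨v.1, v.2, hv⟩

/-- the subgroup of order `55` is a Frobenius group on the `11` cosets -/
theorem frobenius [Finite G] (hH : Nat.card H = 60) (hidx : H.index = 11) (hN : Nat.card N = 55)
    (h55 : ∀ g : G, orderOf g ≠ 55) (n : N) (ω ω' : G ⧸ H) (hne : ω ≠ ω')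
    (h1 : (n : G) • ω = ω) (h2 : (n : G) • ω' = ω') : n = 1 := by
  obtain ⟨P, hPn, hP⟩ := exists_normal_sylow N hN
  obtain ⟨v, hvP, hv⟩ := exists_smul_of_card H N hH hidx P hP ω ω'
  have hv1 : v ≠ 1 := by
    rintro rfl
    rw [Subgroup.coe_one, one_smul] at hv
    exact hne hv
  have hcP : v⁻¹ * (n * v * n⁻¹) ∈ P := P.mul_mem (P.inv_mem hvP) (hPn.conj_mem v hvP n)
  have hcfix : ((v⁻¹ * (n * v * n⁻¹) : N) : G) • ω = ω := by
    simp only [Subgroup.coe_mul, Subgroup.coe_inv, mul_smul]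
    rw [inv_smul_eq_iff.2 h1.symm, hv, h2, ← hv, inv_smul_smul]
  have hc1 : v⁻¹ * (n * v * n⁻¹) = 1 := by
    have h3 := orderOf_dvd_of_fix H _ ω hcfix
    rw [hH, Subgroup.orderOf_coe] at h3
    have h4 : orderOf (⟨_, hcP⟩ : P) ∣ 11 := by
      rw [← hP]; exact orderOf_dvd_natCard _
    rw [← Subgroup.orderOf_coe] at h4
    have h5 : orderOf (v⁻¹ * (n * v * n⁻¹)) ∣ Nat.gcd 60 11 := Nat.dvd_gcd h3 h4
    exact orderOf_eq_one_iff.1 (Nat.dvd_one.1 (by simpa using h5))
  have hcomm : Commute n v := by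
    have : n * v * n⁻¹ = v := by
      have := congrArg (fun z => v * z) hc1
      simpa using this
    have h6 : n * v = v * n := by
      calc n * v = (n * v * n⁻¹) * n := by group
        _ = v * n := by rw [this]
    exact h6
  have hov : orderOf v = 11 := by
    have h4 : orderOf (⟨v, hvP⟩ : P) ∣ 11 := by
      rw [← hP]; exact orderOf_dvd_natCard _
    rw [← Subgroup.orderOf_coe] at h4
    rcases (Nat.dvd_prime (by norm_num : Nat.Prime 11)).1 h4 with h | h
    · exact absurd (orderOf_eq_one_iff.1 h) hv1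
    · exact h
  have hon : orderOf n ∣ 5 := by
    have h3 := orderOf_dvd_of_fix H _ ω h1
    rw [hH, Subgroup.orderOf_coe] at h3
    have h4 : orderOf n ∣ 55 := by rw [← hN]; exact orderOf_dvd_natCard _
    have := Nat.dvd_gcd h3 h4
    simpa using this
  rcases (Nat.dvd_prime (by norm_num : Nat.Prime 5)).1 hon with h | h
  · exact orderOf_eq_one_iff.1 h
  · exfalso
    have h7 : orderOf (n * v) = 55 := by
      rw [hcomm.orderOf_mul_eq_mul_orderOf_of_coprime (by rw [h, hov]; norm_num), h, hov]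
    apply h55 ((n * v : N) : G)
    rw [Subgroup.orderOf_coe, h7]

/-- an involution moving a coset -/
theorem exists_involution_moving [Finite G] [IsSimpleGroup G] (hH : Nat.card H = 60)
    (hidx : H.index = 11) : ∃ (t : G) (ω : G ⧸ H), t ^ 2 = 1 ∧ t • ω ≠ ω := by
  have : Fact (Nat.Prime 2) := ⟨Nat.prime_two⟩
  have hG : Nat.card G = 660 := by rw [← Subgroup.card_mul_index H, hH, hidx]
  obtain ⟨t, ht⟩ := exists_prime_orderOf_dvd_card' (G := G) 2 (by rw [hG]; norm_num)
  have ht2 : t ^ 2 = 1 := by rw [← ht]; exact pow_orderOf_eq_one t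
  by_contra hcon
  push Not at hcon
  have hfix : ∀ ω : G ⧸ H, t • ω = ω := fun ω => hcon t ω ht2
  have hker : t ∈ (MulAction.toPermHom G (G ⧸ H)).ker := by
    rw [MonoidHom.mem_ker]
    ext ω
    simp [hfix ω]
  rcases (MonoidHom.normal_ker (MulAction.toPermHom G (G ⧸ H))).eq_bot_or_eq_top with h | h
  · rw [h, Subgroup.mem_bot] at hker
    rw [hker, orderOf_one] at ht
    omega
  · have hHtop : H = ⊤ := by
      rw [eq_top_iff]
      intro g _
      have hg : g ∈ (MulAction.toPermHom G (G ⧸ H)).ker := by rw [h]; trivial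
      rw [MonoidHom.mem_ker] at hg
      have h1 : g • ((1 : G) : G ⧸ H) = ((1 : G) : G ⧸ H) := by
        have := congrArg (fun σ : Equiv.Perm (G ⧸ H) => σ ((1 : G) : G ⧸ H)) hg
        simpa using this
      rw [MulAction.Quotient.smul_mk, QuotientGroup.eq, smul_eq_mul, mul_one, mul_one] at h1
      simpa using H.inv_mem h1
    rw [hHtop, Subgroup.index_top] at hidx
    omega

/-- the criterion: `G` is doubly transitive on the `11` cosets of `H` -/
theorem two_trans [Finite G] [IsSimpleGroup G] (hH : Nat.card H = 60) (hidx : H.index = 11)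
    (hN : Nat.card N = 55) (h55 : ∀ g : G, orderOf g ≠ 55) :
    IsMultiplyPretransitive G (G ⧸ H) 2 := by
  classical
  obtain ⟨t, ω₀, ht2, hne⟩ := exists_involution_moving H hH hidx
  have hne' : ω₀ ≠ t • ω₀ := fun h => hne h.symm
  have htt : t • t • ω₀ = ω₀ := by rw [← mul_smul, ← pow_two, ht2, one_smul]
  -- the two key facts
  have key1 : ∀ n n' : N, (n : G) • ω₀ = (n' : G) • ω₀ → (n : G) • t • ω₀ = (n' : G) • t • ω₀ →
      n = n' := by
    intro n n' h1 h2
    have h3 : ((n'⁻¹ * n : N) : G) • ω₀ = ω₀ := by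
      rw [Subgroup.coe_mul, Subgroup.coe_inv, mul_smul, h1, inv_smul_smul]
    have h4 : ((n'⁻¹ * n : N) : G) • t • ω₀ = t • ω₀ := by
      rw [Subgroup.coe_mul, Subgroup.coe_inv, mul_smul, h2, inv_smul_smul]
    have := frobenius H N hH hidx hN h55 _ ω₀ (t • ω₀) hne' h3 h4
    exact (inv_mul_eq_one.1 this).symm
  have key2 : ∀ n n' : N, (n : G) • ω₀ = (n' : G) • t • ω₀ → (n : G) • t • ω₀ = (n' : G) • ω₀ →
      False := by
    intro n n' h1 h2
    have h3 : ((n'⁻¹ * n : N) : G) • ω₀ = t • ω₀ := by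
      rw [Subgroup.coe_mul, Subgroup.coe_inv, mul_smul, h1, inv_smul_smul]
    have h4 : ((n'⁻¹ * n : N) : G) • t • ω₀ = ω₀ := by
      rw [Subgroup.coe_mul, Subgroup.coe_inv, mul_smul, h2, inv_smul_smul]
    have h5 : (((n'⁻¹ * n) ^ 2 : N) : G) • ω₀ = ω₀ := by
      rw [pow_two, Subgroup.coe_mul, mul_smul, h3, h4]
    have h6 : (((n'⁻¹ * n) ^ 2 : N) : G) • t • ω₀ = t • ω₀ := by
      rw [pow_two, Subgroup.coe_mul, mul_smul, h4, h3]
    have h7 := frobenius H N hH hidx hN h55 _ ω₀ (t • ω₀) hne' h5 h6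
    have h8 : orderOf (n'⁻¹ * n) ∣ 2 := orderOf_dvd_of_pow_eq_one h7
    have h9 : orderOf (n'⁻¹ * n) ∣ 55 := by rw [← hN]; exact orderOf_dvd_natCard _
    have h10 : orderOf (n'⁻¹ * n) ∣ Nat.gcd 2 55 := Nat.dvd_gcd h8 h9
    have h11 : n'⁻¹ * n = 1 := orderOf_eq_one_iff.1 (Nat.dvd_one.1 (by simpa using h10))
    rw [h11, Subgroup.coe_one, one_smul] at h3
    exact hne' h3
  -- the map
  set e₀ : Fin 2 ↪ G ⧸ H := Function.Embedding.embFinTwo hne' with he₀
  have e00 : e₀ 0 = ω₀ := rfl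
  have e01 : e₀ 1 = t • ω₀ := rfl
  let φ : N × Bool → (Fin 2 ↪ G ⧸ H) := fun x => ((x.1 : G) * (if x.2 then t else 1)) • e₀
  have hφ0 : ∀ n : N, ∀ b : Bool, φ (n, b) 0 = if b then (n : G) • t • ω₀ else (n : G) • ω₀ := by
    intro n b
    cases b <;> simp [φ, Function.Embedding.smul_apply, e00, mul_smul]
  have hφ1 : ∀ n : N, ∀ b : Bool, φ (n, b) 1 = if b then (n : G) • ω₀ else (n : G) • t • ω₀ := by
    intro n b
    cases b <;> simp [φ, Function.Embedding.smul_apply, e01, mul_smul, htt]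
  have hinj : Function.Injective φ := by
    rintro ⟨n, b⟩ ⟨n', b'⟩ h
    have h0 := congrArg (fun e : Fin 2 ↪ G ⧸ H => e 0) h
    have h1 := congrArg (fun e : Fin 2 ↪ G ⧸ H => e 1) h
    simp only [hφ0, hφ1] at h0 h1
    cases b <;> cases b'
    · simp only [Bool.false_eq_true, if_false] at h0 h1
      rw [key1 n n' h0 h1]
    · simp only [Bool.false_eq_true, if_false, if_true] at h0 h1
      exact absurd (key2 n n' h0 h1) id
    · simp only [Bool.false_eq_true, if_false, if_true] at h0 h1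
      exact absurd (key2 n' n h0.symm h1.symm) id
    · simp only [if_true] at h0 h1
      rw [key1 n n' h1 h0]
  have hcard : Nat.card (Fin 2 ↪ G ⧸ H) ≤ Nat.card (N × Bool) := by
    have : Fintype (G ⧸ H) := Fintype.ofFinite _
    rw [Nat.card_prod, hN, Nat.card_eq_fintype_card, Fintype.card_embedding_eq,
      ← Nat.card_eq_fintype_card (α := G ⧸ H), ← Subgroup.index_eq_card, hidx]
    simp [Nat.descFactorial]
  have hsurj := (hinj.bijective_of_nat_card_le hcard).2
  refine ⟨fun e e' => ?_⟩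
  obtain ⟨x, hx⟩ := hsurj e
  obtain ⟨x', hx'⟩ := hsurj e'
  refine ⟨((x'.1 : G) * (if x'.2 then t else 1)) * ((x.1 : G) * (if x.2 then t else 1))⁻¹, ?_⟩
  rw [← hx, ← hx']
  simp only [φ]
  rw [mul_smul, inv_smul_smul]

end

end Cfsg.Agent.Lib.Helper48.L211
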